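import Cfsg.Agent.H943.Car.Three
import Cfsg.Agent.H502.E6.ReflZ

/-!
# T4 of S3852 for `E₆(q)` and `²E₆(q)` (helper943)
-/

set_option autoImplicit false

namespace Cfsg.Agent.H943.Car.ThreeFin

open Cfsg Cfsg.Lie Cfsg.Lie.ChevalleyDatum Cfsg.Agent.ChevalleyStructure Cfsg.Agent.Nodes.RGDChev
  Cfsg.Agent.BpExc.FamUntw Cfsg.Agent.H720.TwFr Cfsg.Agent.H607.Car

variable {r n : ℕ} [Fact r.Prime]

/-- **T4 for `E₆(q)`.** -/
theorem threeSt_untw {F : Type} [Field F] [Fintype F] (f : F →+* Kb r) (hq : Fintype.card F = r ^ n)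
    (S : Six r n 1 (GpExc.Field.emb hp6.inList f) (phi chevE6 (Kb r) r n)) :
    ThreeSt r n 1 (GpExc.Field.emb hp6.inList f) :=
  Three.threeSt_untw H502.E6.reflZ f hq S

/-- **T4 for `²E₆(q)`.** -/
theorem threeSt_tw {K : Type} [Field K] [Fintype K] {q : ℕ} (f : K →+* Kb r) (hn : q = r ^ n)
    (hK : Fintype.card K = q ^ 2) (S : Six r n (-1) (em6 q f) (sig6 (Kb r) r n)) :
    ThreeSt r n (-1) (em6 q f) :=
  Three.threeSt_tw H502.E6.reflZ f hn hK S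

end Cfsg.Agent.H943.Car.ThreeFin
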