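import Cfsg.Agent.H943.Car.W4
import Cfsg.Agent.H129.StTwT

/-!
# Elements of order 3 of `E₆^ε(q)` and the Steinberg group (helper943)
-/

set_option autoImplicit false
set_option linter.unusedSectionVars false

namespace Cfsg.Agent.H943.Car.Cov

open CoxeterSystem Cfsg Cfsg.Lie Cfsg.Lie.ChevalleyDatum
open Cfsg.Agent.ChevalleyStructure Cfsg.Agent.ChevalleyStructure.Elts Cfsg.Agent.ChevalleyStructure.CoxeterGeom
  Cfsg.Agent.ChevalleyStructure.CoxeterGeomTypes Cfsg.Agent.ChevalleyStructure.NPerm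
open Cfsg.Agent.Tits.Roots Cfsg.Agent.Tits.Core Cfsg.Agent.Nodes Cfsg.Agent.Nodes.Reps Cfsg.Agent.Nodes.BNOf
  Cfsg.Agent.Nodes.RGDChev
open Cfsg.Agent.KFacts.RgdChevCoord
open Cfsg.Agent.BpExc Cfsg.Agent.BpExc.TorCent Cfsg.Agent.BpExc.TorChev Cfsg.Agent.BpExc.Tow
open Cfsg.Agent.BpExc.TowChev Cfsg.Agent.BpExc.Fr Cfsg.Agent.BpExc.LangFr
open Cfsg.Agent.ChevalleyStructure.StBasic Cfsg.Agent.ChevalleyStructure.StTheta
open Cfsg.Agent.H129.StCover
open Cfsg.Agent.H696.GmnToral Cfsg.Agent.H696.GmnUntw Cfsg.Agent.H696.GmnThree Cfsg.Agent.H720.TwFr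
open Cfsg.Agent.H607.Car Cfsg.Agent.H943.Car.W3

variable {k : Type} [Field k] [IsAlgClosed k]

/-- the powers of a unit -/
def ex (ζ : kˣ) (d : Fin 6 → ℤ) : Fin chevE6.rank → kˣ := fun i => ζ ^ d i

theorem ex_apply (ζ : kˣ) (d : Fin 6 → ℤ) (i : Fin 6) : ex ζ d i = ζ ^ d i := rfl

theorem ex_congr {ζ : kˣ} (h3 : ζ ^ 3 = 1) {d d' : Fin 6 → ℤ} (h : C3 d d') : ex ζ d = ex ζ d' := by
  obtain ⟨v, rfl⟩ := h
  funext i
  show ζ ^ (d' i + 3 * v i) = ζ ^ d' i
  rw [zpow_add, zpow_mul]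
  have e : ζ ^ (3 : ℤ) = 1 := by exact_mod_cast h3
  rw [e, one_zpow, mul_one]

theorem of_ex_eq {ζ : kˣ} (h3 : orderOf ζ = 3) {d d' : Fin 6 → ℤ} (h : ex ζ d = ex ζ d') : C3 d d' := by
  refine c3_of fun i => ?_
  have h1 : ζ ^ d i = ζ ^ d' i := congrFun h i
  have h2 : ζ ^ (d i - d' i) = 1 := by rw [zpow_sub, h1, mul_inv_cancel]
  have h4 := orderOf_dvd_iff_zpow_eq_one.2 h2
  rwa [h3] at h4

theorem symm_cartan : ∀ i m : Fin 6, chevE6.cartan m (chevE6.simple i) = chevE6.cartan i (chevE6.simple m) := by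
  decide +kernel

theorem sAct_ex (ζ : kˣ) (i : Fin 6) (d : Fin 6 → ℤ) :
    sAct chevE6 k i (ex ζ d) = ex ζ (rp (cs6.simple i) d) := by
  rw [rp_simple]
  have h1 : ∏ m : Fin chevE6.rank, ex ζ d m ^ chevE6.cartan m (chevE6.simple i) = ζ ^ pairing Ca i d := by
    have h2 : ∀ m : Fin 6, ex ζ d m ^ chevE6.cartan m (chevE6.simple i) = ζ ^ (cartanOf chevE6 6 i m * d m) := by
      intro m
      rw [ex_apply, ← zpow_mul, symm_cartan, mul_comm]
      rfl
    show ∏ m : Fin 6, ex ζ d m ^ chevE6.cartan m (chevE6.simple i) = ζ ^ ∑ m, cartanOf chevE6 6 i m * d m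
    rw [← prod_zpow_sum]
    exact Finset.prod_congr rfl fun m _ => h2 m
  refine funext fun (j : Fin 6) => ?_
  show (if j = i then ex ζ d j * (∏ m : Fin chevE6.rank, ex ζ d m ^ chevE6.cartan m (chevE6.simple i))⁻¹ else ex ζ d j) =
    ζ ^ ((d - pairing Ca i d • sr i) j)
  rw [h1]
  by_cases hj : j = i
  · subst hj
    rw [if_pos rfl, Pi.sub_apply, Pi.smul_apply, sr_self, smul_eq_mul, mul_one, zpow_sub]
    rfl
  · rw [if_neg hj, Pi.sub_apply, Pi.smul_apply, sr_ne hj, smul_zero, sub_zero]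
    rfl

variable {Φ : (Fin chevE6.rank → kˣ) →* chevE6.SteinbergGroup k} (hΦ : IsPhi Φ)

include hΦ in
theorem nW_ex (ω : List (Fin 6)) (ζ : kˣ) (d : Fin 6 → ℤ) :
    nW chevE6 k ω * Φ (ex ζ d) * (nW chevE6 k ω)⁻¹ = Φ (ex ζ (rp (cs6.wordProd ω) d)) := by
  induction ω with
  | nil =>
    rw [wordProd_nil, rp_one]
    simp [nW]
  | cons i ω ih =>
    rw [nW_cons, wordProd_cons, rp_mul]
    have e : stn chevE6 (chevE6.simple (i : ℕ)) (1 : k) * nW chevE6 k ω * Φ (ex ζ d) *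
        (stn chevE6 (chevE6.simple (i : ℕ)) (1 : k) * nW chevE6 k ω)⁻¹ =
        stn chevE6 (chevE6.simple (i : ℕ)) (1 : k) * (nW chevE6 k ω * Φ (ex ζ d) * (nW chevE6 k ω)⁻¹) *
          (stn chevE6 (chevE6.simple (i : ℕ)) (1 : k))⁻¹ := by group
    rw [e, ih, ← sAct_ex]
    exact conj_n_phi hp6.inList hΦ i _

include hΦ in
theorem theta_single (i : Fin chevE6.rank) (x : kˣ) :
    theta hp6.inList k (Φ (Pi.mulSingle i x)) = hc hp6 i (x : k) := by
  rw [hΦ.single]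
  apply Subtype.ext
  apply Units.ext
  rw [theta_sth (theta hp6.inList k) (fun r t _ => StTheta.theta_stGen hp6.inList r t)]
  exact (coe_hG hp6.inList _ _).symm

section Ch

variable (hk : LocFin k) (r : ℕ) [Fact r.Prime] [CharP k r]

include hΦ hk r in
/-- the characters of the image of the torus -/
theorem ch_phi {a : Fin 6 → ℤ} (ha : IsRoot cs6 hp6.isCartan a) (b : Fin chevE6.rank → kˣ) :
    ch hp6 a (theta hp6.inList k (Φ b)) = ((∏ i : Fin 6, (b i) ^ pairing Ca i a : kˣ) : k) := by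
  have key : ∀ s : Finset (Fin chevE6.rank), ch hp6 a (theta hp6.inList k (Φ (∏ i ∈ s, Pi.mulSingle i (b i)))) =
      ((∏ i ∈ s, (b i) ^ pairing Ca i a : kˣ) : k) := by
    classical
    intro s
    induction s using Finset.induction_on with
    | empty =>
      rw [Finset.prod_empty, Finset.prod_empty, map_one, map_one, ch_one hp6 cs6 hk r ha, Units.val_one]
    | insert i s hi ih =>
      rw [Finset.prod_insert hi, Finset.prod_insert hi, map_mul, map_mul,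
        ch_mul hp6 cs6 hk r ha (theta_phi_mem hp6.inList hΦ _) (theta_phi_mem hp6.inList hΦ _), ih,
        theta_single hΦ, ch_hc' hp6 hk r cs6 (Units.ne_zero _) i ha, Units.val_mul, Units.val_zpow_eq_zpow_val]
  have h1 := key Finset.univ
  rw [Finset.univ_prod_mulSingle] at h1
  exact h1

include hΦ hk r in
theorem ch_ex {a : Fin 6 → ℤ} (ha : IsRoot cs6 hp6.isCartan a) (ζ : kˣ) (d : Fin 6 → ℤ) :
    ch hp6 a (theta hp6.inList k (Φ (ex ζ d))) = (ζ : k) ^ frm a d := by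
  rw [ch_phi hΦ hk r ha, frm_comm, frm_def, ← Units.val_zpow_eq_zpow_val, ← prod_zpow_sum]
  congr 1
  exact Finset.prod_congr rfl fun i _ => by rw [ex_apply, ← zpow_mul]

end Ch

/-! ### the cover -/

/-- the Steinberg group as a cover of the pair `(E₆(k), σ)`: the elements of `X` lift to fixed elements -/
structure Cover (σ : MulAut ↥(chevE6.group k)) {X : Type} [Group X] (ι : X →* ↥(chevE6.group k)) (v : W6)
    (Φ : (Fin chevE6.rank → kˣ) →* chevE6.SteinbergGroup k)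
    (Ψ : chevE6.SteinbergGroup k →* chevE6.SteinbergGroup k) : Prop where
  isPhi : IsPhi Φ
  thPsi : ∀ x, theta hp6.inList k (Ψ x) = σ (theta hp6.inList k x)
  phi : ∀ ζ : kˣ, ζ ^ 3 = 1 → ∀ d, Ψ (Φ (ex ζ d)) = Φ (ex ζ (rp v d))
  lift : ∀ x : X, ∃ x', Ψ x' = x' ∧ theta hp6.inList k x' = ι x

/-- elements with the same image -/
theorem exists_cen {x y : chevE6.SteinbergGroup k}
    (h : theta hp6.inList k x = theta hp6.inList k y) : ∃ κ ∈ Subgroup.center (chevE6.SteinbergGroup k), y = x * κ := by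
  refine ⟨x⁻¹ * y, ?_, by group⟩
  rw [← ker_theta hp6.inList, MonoidHom.mem_ker, map_mul, map_inv, h, inv_mul_cancel]

include hΦ in
theorem cen_pow {κ : chevE6.SteinbergGroup k} (hκ : κ ∈ Subgroup.center (chevE6.SteinbergGroup k)) : κ ^ 3 = 1 := by
  obtain ⟨a, rfl⟩ := hΦ.center_le hκ
  have h1 := (hΦ.mem_iff a).1 hκ
  rw [← map_pow]
  have h2 : a ^ 3 = 1 := by
    funext i
    exact Cfsg.Agent.H129.StTwT.cen_cube h1 i
  rw [h2, map_one]

section Main

variable (hk : LocFin k) (r : ℕ) [Fact r.Prime] [CharP k r]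

include hΦ hk r in
/-- the lifts of the elements of the class of the coroot lattice have order 3 -/
theorem cube {y : ↥(chevE6.group k)} {x' : chevE6.SteinbergGroup k} (hx' : theta hp6.inList k x' = y)
    {z t : ↥(chevE6.group k)} (ht : t ∈ TT chevE6 k) (hz : z⁻¹ * y * z = t) {ω : kˣ} (hω : ω ^ 3 = 1)
    {c : Fin 6 → ZMod 3} (hc : ∀ i, ch hp6 (sr i) t = (ω : k) ^ (c i).val) (h0 : cl3 c = 0) : x' ^ 3 = 1 := by
  have hZ : Subgroup.center ↥(chevE6.group k) = ⊥ := center_eq_bot_of_simple (S1054.result chevE6 (by simp))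
  obtain ⟨u, j, hj⟩ := orb c h0
  obtain ⟨d, hd⟩ : ∃ d, d = rp u (R j) := ⟨_, rfl⟩
  rw [← hd] at hj
  have hs : theta hp6.inList k (Φ (ex ω d)) ∈ TT chevE6 k := theta_phi_mem hp6.inList hΦ _
  have h1 : theta hp6.inList k (Φ (ex ω d)) = t := by
    refine ext_TT hp6 cs6 hk r hZ hs ht fun a ha => ?_
    rw [ch_prod hp6 hk r cs6 hs ha, ch_prod hp6 hk r cs6 ht ha]
    refine Finset.prod_congr rfl fun i _ => ?_
    congr 1
    rw [hc i, ch_ex hΦ hk r (isRoot_sr _ _ i), frm_sr, ← zpow_natCast, ← Units.val_zpow_eq_zpow_val,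
      ← Units.val_zpow_eq_zpow_val]
    congr 1
    have h2 := hj i
    have h3 : (3 : ℤ) ∣ pairing Ca i d - ((c i).val : ℤ) := by
      have h4 : (3 : ℤ) = ((3 : ℕ) : ℤ) := rfl
      rw [h4, ← ZMod.intCast_eq_intCast_iff_dvd_sub, ← h2]
      simp
    obtain ⟨m, hm⟩ := h3
    have h4 : pairing Ca i d = ((c i).val : ℤ) + 3 * m := by omega
    have h5 : ω ^ (3 : ℤ) = 1 := by exact_mod_cast hω
    rw [h4, zpow_add, zpow_mul, h5, one_zpow, mul_one]
  obtain ⟨z', rfl⟩ := theta_surjective hp6.inList z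
  have h2 : theta hp6.inList k x' = theta hp6.inList k (z' * Φ (ex ω d) * z'⁻¹) := by
    rw [hx', map_mul, map_mul, map_inv, h1, ← hz]
    group
  obtain ⟨κ, hκ, h3⟩ := exists_cen h2.symm
  have h4 : (z' * Φ (ex ω d) * z'⁻¹) ^ 3 = 1 := by
    rw [conj_pow, ← map_pow]
    have h5 : (ex ω d) ^ 3 = 1 := by
      funext i
      show (ω ^ d i) ^ 3 = 1
      rw [← zpow_natCast, ← zpow_mul, mul_comm, zpow_mul, zpow_natCast, hω, one_zpow]
    rw [h5, map_one, mul_one, mul_inv_cancel]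
  have h5 : Commute (z' * Φ (ex ω d) * z'⁻¹) κ := Subgroup.mem_center_iff.1 hκ _
  rw [h3, h5.mul_pow, h4, cen_pow hΦ hκ, mul_one]

include hk r in
/-- **Frames**: the element of the Weyl group fixes the class in the coroot lattice modulo 3. -/
theorem frame_of_cover {σ : MulAut ↥(chevE6.group k)} {X : Type} [Group X] {ι : X →* ↥(chevE6.group k)} {v : W6}
    {Ψ : chevE6.SteinbergGroup k →* chevE6.SteinbergGroup k} (C : Cover σ ι v Φ Ψ)
    {y : ↥(chevE6.group k)} {x' : chevE6.SteinbergGroup k} (hx' : theta hp6.inList k x' = y) (hfix : Ψ x' = x')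
    (h3 : x' ^ 3 = 1) {z t n : ↥(chevE6.group k)} (ht : t ∈ TT chevE6 k) (hz : z⁻¹ * y * z = t)
    (hn : z⁻¹ * σ z = n) {T' : Subgroup ↥(chevE6.group k)} (hT' : T' = TT chevE6 k)
    {hN : NSys CoxeterMatrix.E₆ T' (nc hp6 k)} {w : W6} (hw : Rp cs6 hN w n)
    {ζ : kˣ} (hζ : orderOf ζ = 3) :
    ∃ d : Fin 6 → ℤ, (∀ a, IsRoot cs6 hp6.isCartan a → ch hp6 a t = (ζ : k) ^ frm a d) ∧ C3 (rp w (rp v d)) d := by
  have hζ3 : ζ ^ 3 = 1 := by rw [← hζ]; exact pow_orderOf_eq_one ζ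
  have hΦ := C.isPhi
  obtain ⟨b, hb⟩ := exists_theta_phi hΦ hp6 ht
  obtain ⟨z', rfl⟩ := theta_surjective hp6.inList z
  have h1 : theta hp6.inList k (z' * Φ b * z'⁻¹) = theta hp6.inList k x' := by
    rw [hx', map_mul, map_mul, map_inv, hb, ← hz]
    group
  obtain ⟨κ, hκ, h2⟩ := exists_cen h1
  obtain ⟨a, ha⟩ := hΦ.center_le hκ
  -- absorb the central factor
  obtain ⟨b', hb'⟩ : ∃ b', b' = b * a := ⟨_, rfl⟩
  have h4 : x' = z' * Φ b' * z'⁻¹ := by
    rw [h2, hb', map_mul, ha, mul_assoc _ z'⁻¹ κ, Subgroup.mem_center_iff.1 hκ z'⁻¹]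
    group
  have h5 : theta hp6.inList k (Φ b') = t := by
    have h6 : theta hp6.inList k κ = 1 := by
      rw [← MonoidHom.mem_ker, ker_theta hp6.inList]; exact hκ
    rw [hb', map_mul, map_mul, ha, h6, mul_one, hb]
  have h6 : b' ^ 3 = 1 := by
    apply hΦ.inj
    have h7 := h3
    rw [h4, conj_pow, conj_eq_one_iff] at h7
    rw [map_pow, map_one, h7]
  -- coordinates
  have h7 : ∀ i : Fin 6, ∃ m : ℤ, b' i = ζ ^ m := by
    intro i
    have h8 : (b' i) ^ 3 = 1 := congrFun h6 i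
    have h8' : ((b' i : kˣ) : k) ^ 3 = 1 := by rw [← Units.val_pow_eq_pow_val, h8, Units.val_one]
    have h9 : IsPrimitiveRoot ζ 3 := by rw [← hζ]; exact IsPrimitiveRoot.orderOf ζ
    have h9' : IsPrimitiveRoot (ζ : k) 3 := IsPrimitiveRoot.coe_units_iff.2 h9
    obtain ⟨m, -, hm⟩ := h9'.eq_pow_of_pow_eq_one h8'
    exact ⟨m, Units.ext (by rw [zpow_natCast, Units.val_pow_eq_pow_val]; exact hm.symm)⟩
  choose d hd using h7
  have h8 : b' = ex ζ d := funext fun i => hd i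
  subst h8
  refine ⟨d, fun a ha => by rw [← h5, ch_ex hΦ hk r ha], ?_⟩
  -- the representative
  obtain ⟨ω, rfl⟩ := cs6.wordProd_surjective w
  have hrp : Rp cs6 hN (cs6.wordProd ω) (theta hp6.inList k (nW chevE6 k ω)) := by
    clear hw
    induction ω with
    | nil =>
      rw [wordProd_nil]
      have : theta hp6.inList k (nW chevE6 k ([] : List (Fin 6))) = 1 := by simp [nW]
      rw [this]
      exact rp_one
    | cons i ω ih =>
      rw [wordProd_cons, nW_cons, map_mul, theta_stn_simple hp6]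
      exact (rp_simple cs6 hN i).mul ih
  have ht0 : (theta hp6.inList k (nW chevE6 k ω))⁻¹ * n ∈ TT chevE6 k := by
    rw [← hT']; exact hrp.unique hw
  obtain ⟨a', ha'⟩ := exists_theta_phi hΦ hp6 ht0
  have hθn : theta hp6.inList k (nW chevE6 k ω * Φ a') = theta hp6.inList k (z'⁻¹ * Ψ z') := by
    rw [map_mul, ha', map_mul, map_inv, C.thPsi, hn]
    group
  obtain ⟨κ', hκ', h9⟩ := exists_cen hθn
  have h10 : Ψ z' = z' * (nW chevE6 k ω * Φ a' * κ') := by rw [← h9]; group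
  have hκc : ∀ x : chevE6.SteinbergGroup k, κ' * x * κ'⁻¹ = x := fun x => by
    rw [← Subgroup.mem_center_iff.1 hκ' x, mul_inv_cancel_right]
  have h11 : Φ a' * Φ (ex ζ (rp v d)) * (Φ a')⁻¹ = Φ (ex ζ (rp v d)) := by
    rw [← map_mul, ← map_inv, ← map_mul]
    congr 1
    exact mul_inv_cancel_comm _ _
  have h12 : z' * Φ (ex ζ (rp (cs6.wordProd ω) (rp v d))) * z'⁻¹ = z' * Φ (ex ζ d) * z'⁻¹ := by
    rw [← h4]
    conv_rhs => rw [← hfix, h4, map_mul, map_mul, map_inv, h10, C.phi ζ hζ3]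
    rw [← nW_ex hΦ]
    conv_lhs => rw [← h11, ← hκc (Φ (ex ζ (rp v d)))]
    group
  have h13 := mul_left_cancel (mul_right_cancel h12)
  exact of_ex_eq hζ (hΦ.inj h13)

end Main

end Cfsg.Agent.H943.Car.Cov
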