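import Cfsg.Agent.H943.Car.Cov

/-!
# Elements of order 3 of `E₆^ε(q)`, `3 ∣ q - ε` (S3852, T4; helper943)

`three_of` : the statement `ThreeSt` from the data of the cover; `threeSt_untw`, `threeSt_tw` : both groups.
-/

set_option autoImplicit false
set_option linter.unusedSectionVars false

namespace Cfsg.Agent.H943.Car.Three

open CoxeterSystem Cfsg Cfsg.Lie Cfsg.Lie.ChevalleyDatum
open Cfsg.Agent.ChevalleyStructure Cfsg.Agent.ChevalleyStructure.Elts Cfsg.Agent.ChevalleyStructure.CoxeterGeom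
  Cfsg.Agent.ChevalleyStructure.CoxeterGeomTypes Cfsg.Agent.ChevalleyStructure.NPerm
open Cfsg.Agent.Tits.Roots Cfsg.Agent.Tits.Core Cfsg.Agent.Nodes Cfsg.Agent.Nodes.Reps Cfsg.Agent.Nodes.BNOf
  Cfsg.Agent.Nodes.RGDChev Cfsg.Agent.Nodes.Bruhat
open Cfsg.Agent.KFacts.RgdField Cfsg.Agent.KFacts.RgdChevCoord
open Cfsg.Agent.BpExc Cfsg.Agent.BpExc.TorCent Cfsg.Agent.BpExc.TorChev Cfsg.Agent.BpExc.Tow
open Cfsg.Agent.BpExc.TowChev Cfsg.Agent.BpExc.Fr Cfsg.Agent.BpExc.LangFr Cfsg.Agent.BpExc.HX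
open Cfsg.Agent.BpExc.NChev Cfsg.Agent.BpExc.NInst Cfsg.Agent.BpExc.Pair Cfsg.Agent.BpExc.FamUntw
open Cfsg.Agent.ChevalleyStructure.StBasic Cfsg.Agent.ChevalleyStructure.StTheta
open Cfsg.Agent.H129.StCover
open Cfsg.Agent.H696.GmnToral Cfsg.Agent.H696.GmnUntw Cfsg.Agent.H696.GmnThree Cfsg.Agent.H720.TwFr
open Cfsg.Agent.H607.Car Cfsg.Agent.H943.Car.W3 Cfsg.Agent.H943.Car.Cov

section Lang

variable {r : ℕ} [Fact r.Prime]

/-- the torus -/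
local notation "kk" => Kb r

/-- **The reflections of the roots centralising `t` are represented in the centraliser; the Lang step.** -/
theorem lang_step (hk : LocFin (Kb r)) {n : ℕ} (hn0 : 0 < n) {σ : MulAut (Yb r)}
    {g' : (Fin 6 → ℤ) ≃+ (Fin 6 → ℤ)} {z t m : Yb r} (hσ : IsFrob r n (MulAut.conj m * σ))
    (F : Fr cs6 hp6.isCartan (Tb r) (XX chevE6 6 (Kb r)) (MulAut.conj m * σ) g')
    (ht : t ∈ Tb r) (htt : (MulAut.conj m * σ) t = t) (hm : z⁻¹ * σ z = m) {w₂ : W6}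
    (hw₂ : w₂ ∈ Subgroup.closure {s | ∃ (v : W6) (i : Fin 6), s = v * cs6.simple i * v⁻¹ ∧
      ch hp6 (rp v (sr i)) t = 1}) :
    ∃ y m₁ : Yb r, y * t = t * y ∧ Rp cs6 (tow hp6 cs6 hk r (k := Kb r)).nsys w₂ m₁ ∧
      (z * y)⁻¹ * σ (z * y) = m₁ * m := by
  have hfin : Finite W6 := finite_W hp6 cs6
  have hTL : TL (Tj hp6 (k := Kb r)) = TT chevE6 (Kb r) := TL_eq hp6 hk
  have hXL : XL (Xj hp6 (k := Kb r)) = XX chevE6 6 (Kb r) := XL_eq hp6 hk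
  have C : Coords cs6 hp6.isCartan (TL (Tj hp6 (k := Kb r))) (nc hp6 (Kb r))
      (XL (Xj hp6 (k := Kb r))) (xc hp6) (ch hp6) := by
    rw [hTL, hXL]; exact coordsL hp6 cs6 hk r
  have hA : ChAdd cs6 hp6.isCartan (TL (Tj hp6 (k := Kb r))) (ch (K := Kb r) hp6) := by
    rw [hTL]; exact chAddL hp6 cs6 hk r
  have H := tow hp6 cs6 hk r (k := Kb r)
  have ht' : t ∈ TL (Tj hp6 (k := Kb r)) := by rw [hTL]; exact ht
  -- the elements represented in `MM t`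
  let V : Subgroup W6 :=
    { carrier := {v | ∃ m ∈ MM cs6 hp6.isCartan (XL (Xj hp6 (k := Kb r))) (ch hp6) t, Rp cs6 H.nsys v m}
      one_mem' := ⟨1, one_mem _, rp_one⟩
      mul_mem' := by
        rintro a b ⟨m, hm, hm'⟩ ⟨m', hm1, hm2⟩
        exact ⟨m * m', mul_mem hm hm1, hm'.mul hm2⟩
      inv_mem' := by
        rintro a ⟨m, hm, hm'⟩
        exact ⟨m⁻¹, inv_mem hm, hm'.inv⟩ }
  have hV : w₂ ∈ V := by
    refine (Subgroup.closure_le V).2 ?_ hw₂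
    rintro s ⟨v, i, rfl, h1⟩
    have ha : rp v (sr i) ∈ Sx cs6 hp6.isCartan (ch hp6) t := ⟨⟨v, i, rfl⟩, h1⟩
    obtain ⟨v', i', h2, m', hm', hm''⟩ := exists_rfl_MM H C hA ht' ha
    have h3 : v * cs6.simple i * v⁻¹ = v' * cs6.simple i' * v'⁻¹ := by
      refine rep_faithful hp6 cs6 fun b _ => ?_
      have h4 := rp_refl v i b
      have h5 := rp_refl v' i' b
      have h6 : rp v (sr i) = rp v' (sr i') := h2
      rw [h6] at h4
      exact h4.trans h5.symm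
    refine ⟨m', hm', ?_⟩
    rw [h3]
    exact hm''
  obtain ⟨m₁, hm₁, hR⟩ := hV
  have F1 : Fr cs6 hp6.isCartan (TL (Tj hp6 (k := Kb r))) (XL (Xj hp6 (k := Kb r))) (MulAut.conj m * σ) g' := by
    rw [hTL, hXL]; exact F
  obtain ⟨y, hy, hym⟩ : ∃ y ∈ MM cs6 hp6.isCartan (XL (Xj hp6 (k := Kb r))) (ch hp6) t,
      m₁ = y⁻¹ * (MulAut.conj m * σ) y := by
    have h1 := fun a => F1.mem_Sx C ht' htt a
    have h2 := hm₁
    unfold MM at h2 ⊢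
    rw [hXL] at h2 ⊢
    exact lang_fr hp6 cs6 hn0 hσ F (S := Sx cs6 hp6.isCartan (ch hp6) t) (fun a ha => ha.1)
      (fun a ha => (h1 a).2 ha) h2
  have hyt : y * t = t * y := by
    have := MM_le_centralizer C ht' hy
    rw [Subgroup.mem_centralizer_singleton_iff] at this
    exact this
  refine ⟨y, m₁, hyt, hR, ?_⟩
  have h1 : (MulAut.conj m * σ) y = m * σ y * m⁻¹ := rfl
  rw [hym, h1, map_mul]
  calc (z * y)⁻¹ * (σ z * σ y) = y⁻¹ * (z⁻¹ * σ z) * σ y := by group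
    _ = _ := by rw [hm]; group

end Lang

section Main

variable {r n : ℕ} [Fact r.Prime] {ε : ℤ} {X : Type} [Group X] {ι : X →* Yb r} {σ : MulAut (Yb r)}

theorem locFin : LocFin (Kb r) := locFin_of_isAlgebraic r (Kb r)

/-- **T4 from the cover.** -/
theorem three_of (hR : ReflZ) (S : Six r n ε ι σ) {v₀ : W6} {g : (Fin 6 → ℤ) ≃+ (Fin 6 → ℤ)}
    (Fσ : Fr cs6 hp6.isCartan (Tb r) (XX chevE6 6 (Kb r)) σ g) (hg : ∀ a, g a = ε • rp v₀ a)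
    {Φ : (Fin chevE6.rank → (Kb r)ˣ) →* chevE6.SteinbergGroup (Kb r)}
    {Ψ : chevE6.SteinbergGroup (Kb r) →* chevE6.SteinbergGroup (Kb r)} (Co : Cover σ ι v₀ Φ Ψ)
    (hdiv : (3 : ℤ) ∣ (r : ℤ) ^ n - ε) {x : X} {z t : Yb r} (ht : t ∈ Tb r)
    (hz : z⁻¹ * ι x * z = t) {ω : Kb r} {c : Fin 6 → ZMod 3} (hω : orderOf ω = 3)
    (hc : ∀ i, ch hp6 (sr i) t = ω ^ (c i).val) (h0 : cl3 c = 0) : IsConj x x⁻¹ := by
  have hfin : Finite W6 := finite_W hp6 cs6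
  have hk : LocFin (Kb r) := locFin
  have hZ : Subgroup.center (Yb r) = ⊥ := center_eq_bot_of_simple (S1054.result chevE6 (by simp))
  have hTL : TL (Tj hp6 (k := Kb r)) = TT chevE6 (Kb r) := TL_eq hp6 hk
  have hXL : XL (Xj hp6 (k := Kb r)) = XX chevE6 6 (Kb r) := XL_eq hp6 hk
  have C : Coords cs6 hp6.isCartan (TL (Tj hp6 (k := Kb r))) (nc hp6 (Kb r))
      (XL (Xj hp6 (k := Kb r))) (xc hp6) (ch hp6) := by
    rw [hTL, hXL]; exact coordsL hp6 cs6 hk r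
  -- the unit
  have hω0 : ω ≠ 0 := by
    rintro rfl
    have h1 := pow_orderOf_eq_one (0 : Kb r)
    rw [hω] at h1
    norm_num at h1
  obtain ⟨ζ, hζ⟩ : ∃ ζ : (Kb r)ˣ, (ζ : Kb r) = ω := ⟨Units.mk0 ω hω0, rfl⟩
  have hζ3 : orderOf ζ = 3 := by rw [← orderOf_units, hζ, hω]
  have hζ3' : ζ ^ 3 = 1 := by rw [← hζ3]; exact pow_orderOf_eq_one ζ
  -- the lift
  obtain ⟨x', hfix, hx'⟩ := Co.lift x
  have h3 : x' ^ 3 = 1 := cube Co.isPhi hk r hx' ht hz hζ3' (fun i => by rw [hζ]; exact hc i) h0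
  -- the frame
  obtain ⟨z₁, t₁, m, g', w₁, ht₁, hz₁, hm, hF, F', htt, hw₁, hw₁a⟩ :=
    frame_of_toral hp6 cs6 hk S.pos S.frob Fσ (S.fix x) (z := z) (by rw [hz]; exact ht)
  obtain ⟨d, hd, hd3⟩ := frame_of_cover hk r Co hx' hfix h3 ht₁ hz₁ hm hTL hw₁ hζ3
  have h4 : w₁ * v₀ ∈ Rf d := stab3 hR (by rw [rp_mul]; exact hd3)
  -- the reflections
  have h5 : (w₁ * v₀)⁻¹ ∈ Subgroup.closure {s | ∃ (v : W6) (i : Fin 6), s = v * cs6.simple i * v⁻¹ ∧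
      ch hp6 (rp v (sr i)) t₁ = 1} := by
    refine inv_mem (Subgroup.closure_mono ?_ h4)
    rintro s ⟨v, i, hs, hdv⟩
    refine ⟨v, i, hs, ?_⟩
    rw [hd _ ⟨v, i, rfl⟩]
    obtain ⟨m', hm'⟩ := hdv
    rw [hm', zpow_mul, ← Units.val_zpow_eq_zpow_val]
    have : ζ ^ (3 : ℤ) = 1 := by exact_mod_cast hζ3'
    rw [this, Units.val_one, one_zpow]
  obtain ⟨y, m₁, hyt, hm₁, hzy⟩ := lang_step hk S.pos hF F' ht₁ htt hm h5
  obtain ⟨v, hv⟩ : ∃ v, v = z₁ * y := ⟨_, rfl⟩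
  rw [← hv] at hzy
  have hvx : v⁻¹ * ι x * v = t₁ := by
    rw [hv]
    calc (z₁ * y)⁻¹ * ι x * (z₁ * y) = y⁻¹ * (z₁⁻¹ * ι x * z₁) * y := by group
      _ = y⁻¹ * (t₁ * y) := by rw [hz₁]; group
      _ = t₁ := by rw [← hyt]; group
  -- the good frame
  have F2 := Fr.conj (tow hp6 cs6 hk r (k := Kb r)) hm₁
  rw [hTL, hXL] at F2
  have F3 := F2.mul F'
  have hF3 : IsFrob r n (MulAut.conj m₁ * (MulAut.conj m * σ)) := hF.conj_mul m₁
  have e3 : MulAut.conj m₁ * (MulAut.conj m * σ) = MulAut.conj (m₁ * m) * σ := by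
    rw [map_mul, mul_assoc]
  rw [e3] at F3 hF3
  have hg3 : ∀ a, IsRoot cs6 hp6.isCartan a → (g'.trans (repAut cs6 hp6.isCartan (w₁ * v₀)⁻¹)) a = ε • a := by
    intro a ha
    show repAut cs6 hp6.isCartan (w₁ * v₀)⁻¹ (g' a) = ε • a
    rw [repAut_apply, hw₁a a ha, hg a]
    show rp (w₁ * v₀)⁻¹ (rp w₁ (ε • rp v₀ a)) = ε • a
    rw [rp_smul, rp_smul, ← rp_mul w₁ v₀, rp_inv]
  -- the element `-1`
  obtain ⟨w, hw⟩ := neg3 d
  obtain ⟨nw, hnw, hnwf⟩ := exists_fixed_rp hp6 cs6 hk hZ S.pos hF3 F3 (w := w) (fun a ha => by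
    rw [hg3 a ha, hg3 _ (ha.act w), map_smul])
  have h6 : nw * t₁ * nw⁻¹ ∈ TT chevE6 (Kb r) := by
    have := (Subgroup.mem_normalizer_iff.1 hnw.mem_normalizer t₁).1 (by rw [hTL]; exact ht₁)
    rwa [hTL] at this
  have h7 : nw * t₁ * nw⁻¹ = t₁⁻¹ := by
    refine ext_TT hp6 cs6 hk r hZ h6 (inv_mem ht₁) fun a ha => ?_
    have h8 := C.chi_rp _ hnw (ha.act w⁻¹) (t := t₁) (by rw [hTL]; exact ht₁)
    rw [rep_apply_inv] at h8
    rw [h8, ch_inv hp6 cs6 hk r ha ht₁, hd _ (ha.act w⁻¹), hd a ha, ← Units.val_zpow_eq_zpow_val,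
      ← Units.val_zpow_eq_zpow_val, ← Units.val_inv_eq_inv_val]
    congr 1
    have h9 : frm (rep cs6 hp6.isCartan w⁻¹ a) d = frm a (rp w d) := by
      have := frm_rp w (rp w⁻¹ a) d
      rw [rp_inv'] at this
      exact this.symm
    obtain ⟨m', hm'⟩ := hw a
    rw [h9, eq_inv_iff_mul_eq_one, ← zpow_add, hm', zpow_mul]
    have : ζ ^ (3 : ℤ) = 1 := by exact_mod_cast hζ3'
    rw [this, one_zpow]
  -- the element inverting `x`
  obtain ⟨y₀, hy₀⟩ : ∃ y₀, y₀ = v * nw * v⁻¹ := ⟨_, rfl⟩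
  have hσy : σ y₀ = y₀ := by
    have h8 : σ v = v * (m₁ * m) := by rw [← hzy]; group
    have h9 : m₁ * m * σ nw * (m₁ * m)⁻¹ = nw := hnwf
    rw [hy₀, map_mul, map_mul, map_inv, h8]
    calc v * (m₁ * m) * σ nw * (v * (m₁ * m))⁻¹ = v * (m₁ * m * σ nw * (m₁ * m)⁻¹) * v⁻¹ := by group
      _ = _ := by rw [h9]
  have hinv : y₀ * ι x * y₀⁻¹ = (ι x)⁻¹ := by
    have h8 : ι x = v * t₁ * v⁻¹ := by rw [← hvx]; group
    rw [h8, hy₀]
    calc v * nw * v⁻¹ * (v * t₁ * v⁻¹) * (v * nw * v⁻¹)⁻¹ = v * (nw * t₁ * nw⁻¹) * v⁻¹ := by group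
      _ = v * t₁⁻¹ * v⁻¹ := by rw [h7]
      _ = _ := by group
  have hinv' : y₀ * (ι x)⁻¹ * y₀⁻¹ = ι x := by
    calc y₀ * (ι x)⁻¹ * y₀⁻¹ = (y₀ * ι x * y₀⁻¹)⁻¹ := by group
      _ = ι x := by rw [hinv, inv_inv]
  have h8 : y₀ ^ 3 * ι x * (y₀ ^ 3)⁻¹ = (ι x)⁻¹ := by
    have e : y₀ ^ 3 * ι x * (y₀ ^ 3)⁻¹ = y₀ * (y₀ * (y₀ * ι x * y₀⁻¹) * y₀⁻¹) * y₀⁻¹ := by
      rw [pow_succ, pow_two]; group
    rw [e, hinv, hinv', hinv]
  obtain ⟨s, hs⟩ := S.desc y₀ hσy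
  have h9 : Int.gcd 3 ((r : ℤ) ^ n - ε) = 3 := by exact_mod_cast Int.gcd_eq_left (by norm_num) hdiv
  rw [h9] at hs
  rw [isConj_iff]
  refine ⟨s, S.inj ?_⟩
  rw [map_mul, map_mul, map_inv, hs, h8, map_inv]

end Main

/-! ### the covers -/

section Covers

variable {r n : ℕ} [Fact r.Prime]

/-- `E₆(q)` -/
theorem cover_untw {F : Type} [Field F] [Fintype F] (f : F →+* Kb r) (hq : Fintype.card F = r ^ n)
    (hdiv : (3 : ℤ) ∣ (r : ℤ) ^ n - 1) {Φ : (Fin chevE6.rank → (Kb r)ˣ) →* chevE6.SteinbergGroup (Kb r)}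
    (hΦ : IsPhi Φ) :
    Cover (phi chevE6 (Kb r) r n) (GpExc.Field.emb hp6.inList f) 1 Φ (stMap chevE6 (iterateFrobenius (Kb r) r n)) where
  isPhi := hΦ
  thPsi x := by
    rw [theta_stMap]
    apply Subtype.ext
    apply Units.ext
    rw [phi_coe, GpExc.Field.coe_emb]
    rfl
  phi ζ hζ d := by
    rw [stMap_phi hΦ, W3.rp_one]
    refine congrArg Φ (funext fun i => Units.ext ?_)
    show iterateFrobenius (Kb r) r n ((ex ζ d i : (Kb r)ˣ) : Kb r) = _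
    rw [iterateFrobenius_def, ← Units.val_pow_eq_pow_val]
    congr 1
    show (ζ ^ (d : Fin 6 → ℤ) i) ^ r ^ n = ζ ^ (d : Fin 6 → ℤ) i
    obtain ⟨m, hm⟩ := hdiv
    have h1 : ((r ^ n : ℕ) : ℤ) = 1 + 3 * m := by push_cast; omega
    rw [← zpow_natCast, h1, ← zpow_mul, mul_add, mul_one, zpow_add, mul_left_comm, zpow_mul]
    have h2 : ζ ^ (3 : ℤ) = 1 := by exact_mod_cast hζ
    rw [h2, one_zpow, mul_one]
  lift x := by
    obtain ⟨x₀, rfl⟩ := theta_surjective hp6.inList x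
    refine ⟨stMap chevE6 f x₀, ?_, theta_stMap f hp6.inList x₀⟩
    rw [stMap_comp]
    congr 2
    ext a
    exact (H129.TorusUntw.frob_fix_iff f hq (f a)).2 ⟨a, rfl⟩

open Cfsg.Agent.H129.StTw Cfsg.Agent.H129.StTwT in
/-- `²E₆(q)` -/
theorem cover_tw {K : Type} [Field K] [Fintype K] {q : ℕ} (f : K →+* Kb r) (hn0 : 0 < n) (hn : q = r ^ n)
    (hK : Fintype.card K = q ^ 2) (hdiv : (3 : ℤ) ∣ (r : ℤ) ^ n - (-1)) {v₀ : W6}
    (hv₀ : ∀ a, permE rho6 a = -rp v₀ a)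
    {Φ : (Fin chevE6.rank → (Kb r)ˣ) →* chevE6.SteinbergGroup (Kb r)} (hΦ : IsPhi Φ) :
    Cover (sig6 (Kb r) r n) (em6 q f) v₀ Φ (stSg (iterateFrobenius (Kb r) r n)) where
  isPhi := hΦ
  thPsi x := by
    rw [theta_stSg]
    apply Subtype.ext
    rw [H129.TwE6Fr.coe_tau, coe_sig6]
  phi ζ hζ d := by
    rw [stSg_phi hΦ]
    refine congrArg Φ (funext fun i => Units.ext ?_)
    show iterateFrobenius (Kb r) r n ((ex ζ d (nodR i) : (Kb r)ˣ) : Kb r) = _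
    rw [iterateFrobenius_def, ← Units.val_pow_eq_pow_val]
    congr 1
    have h1 : rp v₀ d i = -d (nodR i) := by
      have h2 := congrFun (hv₀ d) i
      have h3 : permE rho6 d i = d (nodR i) := by
        show d (rho6.symm i) = d (nodR i)
        congr 1
      rw [h3] at h2
      have h4 : (-rp v₀ d) i = -(rp v₀ d i) := rfl
      rw [h4] at h2
      omega
    show (ζ ^ (d : Fin 6 → ℤ) (nodR i)) ^ r ^ n = ζ ^ (rp v₀ d i)
    rw [h1]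
    obtain ⟨m, hm⟩ := hdiv
    have h2 : ((r ^ n : ℕ) : ℤ) = -1 + 3 * m := by push_cast; omega
    rw [← zpow_natCast, h2, ← zpow_mul, mul_add, mul_neg_one, zpow_add, mul_left_comm, zpow_mul]
    have h3 : ζ ^ (3 : ℤ) = 1 := by exact_mod_cast hζ
    rw [h3, one_zpow, mul_one]
  lift x := by
    have hq : IsPrimePow q := (isPrimePow_nat_iff _).2 ⟨r, n, Fact.out, hn0, hn.symm⟩
    obtain ⟨x', h1, h2⟩ := lift_tw (k := Kb r) f hn hq hK x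
    refine ⟨x', h1, h2.trans (Subtype.ext ?_)⟩
    rw [H129.TwE6Fr.coe_embT]
    rfl

end Covers

/-! ### both groups -/

section Both

variable {r n : ℕ} [Fact r.Prime]

/-- **T4 for `E₆(q)`.** -/
theorem threeSt_untw (hR : ReflZ) {F : Type} [Field F] [Fintype F] (f : F →+* Kb r) (hq : Fintype.card F = r ^ n)
    (S : Six r n 1 (GpExc.Field.emb hp6.inList f) (phi chevE6 (Kb r) r n)) :
    ThreeSt r n 1 (GpExc.Field.emb hp6.inList f) := by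
  intro _ hdiv x hx
  by_contra H
  rw [not_or] at H
  obtain ⟨H1, H2⟩ := H
  apply H2
  intro z t ht hz ω c hω hc h0
  obtain ⟨Φ, hΦ⟩ := H129.PhiE.isPhi_E6 (Kb r)
  exact H1 (three_of hR S (Cfsg.Agent.BpExc.FamInst.phi_fr hp6 cs6 r locFin n) (v₀ := 1) (fun a => by rw [W3.rp_one, one_smul]; rfl)
    (cover_untw f hq hdiv hΦ) hdiv ht hz hω hc h0)

/-- **T4 for `²E₆(q)`.** -/
theorem threeSt_tw (hR : ReflZ) {K : Type} [Field K] [Fintype K] {q : ℕ} (f : K →+* Kb r) (hn : q = r ^ n)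
    (hK : Fintype.card K = q ^ 2) (S : Six r n (-1) (em6 q f) (sig6 (Kb r) r n)) :
    ThreeSt r n (-1) (em6 q f) := by
  intro _ hdiv x hx
  by_contra H
  rw [not_or] at H
  obtain ⟨H1, H2⟩ := H
  apply H2
  intro z t ht hz ω c hω hc h0
  obtain ⟨Φ, hΦ⟩ := H129.PhiE.isPhi_E6 (Kb r)
  obtain ⟨v₀, hv₀⟩ := H696.GmnTwE6.neg_graph hp6 cs6
  exact H1 (three_of hR S (fr_sig6 locFin r hp6 cs6 n) (v₀ := v₀) (fun a => by rw [hv₀ a, neg_one_smul])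
    (cover_tw f S.pos hn hK hdiv hv₀ hΦ) hdiv ht hz hω hc h0)

end Both

end Cfsg.Agent.H943.Car.Three
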