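import Cfsg.Agent.H607.Car.E6Def
import Cfsg.Agent.H696.GmnThree

/-!
# The Weyl group of type `E₆` on the coroot lattice modulo 3 (helper943)

* `orb` : four orbits on the image of the root lattice in the weight lattice modulo 3;
* `stab3` : the stabilisers on the root lattice modulo 3 are generated by reflections;
* `neg3` : `-1` on the image.
-/

set_option autoImplicit false
set_option linter.unusedSectionVars false

namespace Cfsg.Agent.H943.Car.W3

open CoxeterSystem Subgroup Cfsg Cfsg.Lie Cfsg.Lie.ChevalleyDatum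
open Cfsg.Agent.ChevalleyStructure Cfsg.Agent.ChevalleyStructure.Elts Cfsg.Agent.ChevalleyStructure.CoxeterGeom
  Cfsg.Agent.ChevalleyStructure.CoxeterGeomTypes
open Cfsg.Agent.Tits.Roots Cfsg.Agent.Tits.Core Cfsg.Agent.Nodes.RGDChev
open Cfsg.Agent.H696.GmnNeg Cfsg.Agent.H696.GmnThree Cfsg.Agent.H720.TwFr Cfsg.Agent.H607.Car

/-- the Cartan matrix -/
abbrev Ca : Fin 6 → Fin 6 → ℤ := cartanOf chevE6 6

/-- the symmetric form -/
def frm (a d : Fin 6 → ℤ) : ℤ := ∑ i, a i * pairing Ca i d

theorem frm_def (a d : Fin 6 → ℤ) : frm a d = ∑ i, a i * pairing Ca i d := rfl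

theorem rp_mul (v w : W6) (x : Fin 6 → ℤ) : rp (v * w) x = rp v (rp w x) := rep_mul_apply _ _ _ _ _

theorem rp_one (x : Fin 6 → ℤ) : rp 1 x = x := by
  show rep cs6 hp6.isCartan 1 x = x
  rw [map_one, Module.End.one_apply]

theorem rp_inv (w : W6) (x : Fin 6 → ℤ) : rp w⁻¹ (rp w x) = x := by
  rw [← rp_mul, inv_mul_cancel, rp_one]

theorem rp_inv' (w : W6) (x : Fin 6 → ℤ) : rp w (rp w⁻¹ x) = x := by
  rw [← rp_mul, mul_inv_cancel, rp_one]

theorem rp_add (w : W6) (x y : Fin 6 → ℤ) : rp w (x + y) = rp w x + rp w y := map_add _ _ _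

theorem rp_sub (w : W6) (x y : Fin 6 → ℤ) : rp w (x - y) = rp w x - rp w y := map_sub _ _ _

theorem rp_neg (w : W6) (x : Fin 6 → ℤ) : rp w (-x) = -rp w x := map_neg _ _

theorem rp_smul (w : W6) (m : ℤ) (x : Fin 6 → ℤ) : rp w (m • x) = m • rp w x := map_smul _ _ _

theorem rp_simple (i : Fin 6) (x : Fin 6 → ℤ) : rp (cs6.simple i) x = x - pairing Ca i x • sr i :=
  rep_simple_eq _ _ _ _

theorem rp_simple' (i : Fin 6) (x : Fin 6 → ℤ) : rp (cs6.simple i) x = rf AE6 i x := by
  rw [← cartanE6]
  exact rep_eq_rf i x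

theorem frm_add_right (a d e : Fin 6 → ℤ) : frm a (d + e) = frm a d + frm a e := by
  simp only [frm, pairing_add, mul_add, Finset.sum_add_distrib]

theorem frm_smul_right (a d : Fin 6 → ℤ) (m : ℤ) : frm a (m • d) = m * frm a d := by
  simp only [frm, pairing_smul, Finset.mul_sum]
  exact Finset.sum_congr rfl fun k _ => by ring

theorem frm_sub_right (a d e : Fin 6 → ℤ) : frm a (d - e) = frm a d - frm a e := by
  have h1 : d - e = d + (-1 : ℤ) • e := by rw [neg_one_smul, sub_eq_add_neg]
  rw [h1, frm_add_right, frm_smul_right]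
  ring

theorem frm_comm (a d : Fin 6 → ℤ) : frm a d = frm d a := by
  unfold frm pairing
  show ∑ i, a i * ∑ k, (cartanOf chevE6 6) i k * d k = ∑ i, d i * ∑ k, (cartanOf chevE6 6) i k * a k
  rw [cartanE6]
  simp only [Fin.sum_univ_six]
  simp [AE6]
  ring

theorem frm_sr (i : Fin 6) (d : Fin 6 → ℤ) : frm (sr i) d = pairing Ca i d := by
  rw [frm_def, Finset.sum_eq_single i]
  · rw [sr_self, one_mul]
  · intro b _ hb
    rw [sr_ne hb, zero_mul]
  · intro h; exact absurd (Finset.mem_univ _) h

theorem frm_simple (i : Fin 6) (a d : Fin 6 → ℤ) : frm (rp (cs6.simple i) a) (rp (cs6.simple i) d) = frm a d := by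
  rw [rp_simple, rp_simple, frm_sub_right, frm_smul_right, frm_comm _ (sr i), frm_comm _ d, frm_sub_right,
    frm_sub_right, frm_smul_right, frm_smul_right, frm_sr, frm_sr, frm_comm d (sr i), frm_sr, frm_comm d a]
  have h1 : pairing Ca i (sr i) = 2 := by
    rw [sr, pairing_single, mul_one]
    exact hp6.isCartan.diag i
  rw [h1]
  ring

theorem frm_rp (w : W6) (a d : Fin 6 → ℤ) : frm (rp w a) (rp w d) = frm a d := by
  obtain ⟨ω, rfl⟩ := cs6.wordProd_surjective w
  induction ω with
  | nil => rw [wordProd_nil, rp_one, rp_one]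
  | cons i ω ih => rw [wordProd_cons, rp_mul, rp_mul, frm_simple, ih]

/-- the reflection in the root `rp v (sr i)` -/
theorem rp_refl (v : W6) (i : Fin 6) (x : Fin 6 → ℤ) :
    rp (v * cs6.simple i * v⁻¹) x = x - frm (rp v (sr i)) x • rp v (sr i) := by
  rw [rp_mul, rp_mul, rp_simple, rp_sub, rp_inv', rp_smul]
  have h1 : pairing Ca i (rp v⁻¹ x) = frm (rp v (sr i)) x := by
    rw [← frm_sr, ← frm_rp v, rp_inv']
  rw [h1]

/-! ### congruences modulo 3 -/

/-- congruence modulo 3 -/
def C3 (x y : Fin 6 → ℤ) : Prop := ∃ v, x = y + (3 : ℤ) • v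

theorem C3.refl (x : Fin 6 → ℤ) : C3 x x := ⟨0, by rw [smul_zero, add_zero]⟩

theorem C3.symm {x y : Fin 6 → ℤ} (h : C3 x y) : C3 y x := by
  obtain ⟨v, rfl⟩ := h
  exact ⟨-v, by rw [smul_neg, add_neg_cancel_right]⟩

theorem C3.trans {x y z : Fin 6 → ℤ} (h : C3 x y) (h' : C3 y z) : C3 x z := by
  obtain ⟨v, rfl⟩ := h
  obtain ⟨v', rfl⟩ := h'
  exact ⟨v' + v, by rw [smul_add, add_assoc]⟩

theorem C3.rp {x y : Fin 6 → ℤ} (h : C3 x y) (w : W6) : C3 (rp w x) (rp w y) := by
  obtain ⟨v, rfl⟩ := h
  exact ⟨_, by rw [rp_add, rp_smul]⟩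

theorem C3.add {x y x' y' : Fin 6 → ℤ} (h : C3 x y) (h' : C3 x' y') : C3 (x + x') (y + y') := by
  obtain ⟨v, rfl⟩ := h
  obtain ⟨v', rfl⟩ := h'
  exact ⟨v + v', by rw [smul_add]; abel⟩

theorem C3.frm {x y : Fin 6 → ℤ} (h : C3 x y) (a : Fin 6 → ℤ) : (3 : ℤ) ∣ frm a x - frm a y := by
  obtain ⟨v, rfl⟩ := h
  rw [frm_add_right, frm_smul_right, add_sub_cancel_left]
  exact Dvd.intro _ rfl

theorem c3_of {x y : Fin 6 → ℤ} (h : ∀ i, (3 : ℤ) ∣ x i - y i) : C3 x y := by
  choose v hv using h
  refine ⟨v, funext fun i => ?_⟩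
  rw [Pi.add_apply, Pi.smul_apply, smul_eq_mul, ← hv]
  ring

/-- the elements with pairings divisible by 3 are fixed modulo 3 -/
theorem c3_ker {e : Fin 6 → ℤ} (he : ∀ i, (3 : ℤ) ∣ pairing Ca i e) (w : W6) : C3 (rp w e) e := by
  obtain ⟨ω, rfl⟩ := cs6.wordProd_surjective w
  induction ω with
  | nil => rw [wordProd_nil, rp_one]; exact C3.refl _
  | cons i ω ih =>
    rw [wordProd_cons, rp_mul]
    refine (ih.rp _).trans ?_
    obtain ⟨m, hm⟩ := he i
    rw [rp_simple, hm]
    refine ⟨-(m • sr i), ?_⟩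
    rw [smul_neg, smul_smul, sub_eq_add_neg]

/-! ### the orbits -/

/-- representatives -/
def R : Fin 4 → Fin 6 → ℤ := ![![0, 0, 0, 0, 0, 0], ![1, 2, 2, 3, 2, 1], ![2, 2, 3, 4, 3, 2], ![2, 3, 4, 6, 4, 2]]

/-- their pairings -/
def Pr : Fin 4 → Fin 6 → ℤ := ![![0, 0, 0, 0, 0, 0], ![0, 1, 0, 0, 0, 0], ![1, 0, 0, 0, 0, 1], ![0, 0, 0, 1, 0, 0]]

theorem pairing_R : ∀ k i, pairing AE6 i (R k) = Pr k i := by decide +kernel

/-- distances -/
def rk (c : Fin 6 → ZMod 3) : ℕ :=
  (44904079819881986029213914909999008602927786645207379337370025941555124427353491355656751169428613613139085380648193176178876186208601090439455934843655154586330493772246561283793377787405550202759484951038503920305791426790264820553826047736341672153116587275090706568821077568032303040375732407979638654095746601506213046766569779722651682314039098568473288215349175119693133203072361965545598791048699852483933900901713415186257234396214874573181027635851859502180127465608209894103577612740380620285920232060873394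368869710191633534612782296076223675700957128137039548064573486878116707607306560518726631583822409015427287969492457731819145382376209021351934848389245446059830005750075662282758879450800428362473672324510689274178116129405756280162058809921964571595902439610339851017972766787118939709291227271254066914772318819462254700355445825241341405078343213319319446281096031189417106466294339218374129200570358648081138280877863342855589313524654701268175477191415234299337682251743658643956299478338001476472846537863916384618425056558889273234988002344538769799045031050710024716288 >>>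
    (5 * ((c 0).val + 3 * (c 1).val + 9 * (c 2).val + 27 * (c 3).val + 81 * (c 4).val + 243 * (c 5).val))) % 32

/-- the reflection on the pairings modulo 3 -/
def sC (i : Fin 6) (c : Fin 6 → ZMod 3) : Fin 6 → ZMod 3 := fun j => c j - (AE6 j i : ZMod 3) * c i

/-- the statement to be checked -/
def Chk (c : Fin 6 → ZMod 3) : Prop := cl3 c = 0 → (∃ k : Fin 4, ∀ i, c i = ((Pr k i : ℤ) : ZMod 3)) ∨
  ∃ i, rk (sC i c) < rk c

instance (c : Fin 6 → ZMod 3) : Decidable (Chk c) := by unfold Chk; infer_instance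

theorem chk : ∀ a b c d e f : ZMod 3, Chk ![a, b, c, d, e, f] := by decide +kernel

theorem chk' (c : Fin 6 → ZMod 3) : Chk c := by
  have h := chk (c 0) (c 1) (c 2) (c 3) (c 4) (c 5)
  have e : c = ![c 0, c 1, c 2, c 3, c 4, c 5] := by
    funext i; fin_cases i <;> rfl
  rw [e]
  exact h

theorem cl3_sC (i : Fin 6) (c : Fin 6 → ZMod 3) : cl3 (sC i c) = cl3 c := by
  have h3 : ∀ x : ZMod 3, 3 * x = 0 := by decide
  unfold cl3 sC
  fin_cases i <;> simp [AE6] <;> first
    | linear_combination (0 : ZMod 3) * h3 0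
    | linear_combination -h3 (c 2)
    | linear_combination h3 (c 3)
    | linear_combination -h3 (c 5)

/-- **The orbits.** -/
theorem orb (c : Fin 6 → ZMod 3) (hc : cl3 c = 0) : ∃ (u : W6) (k : Fin 4), ∀ i,
    c i = ((pairing Ca i (rp u (R k)) : ℤ) : ZMod 3) := by
  obtain ⟨n, hn⟩ : ∃ n, n = rk c := ⟨_, rfl⟩
  induction n using Nat.strong_induction_on generalizing c with
  | _ n ih =>
    rcases chk' c hc with ⟨k, hk⟩ | ⟨i, hi⟩
    · refine ⟨1, k, fun i => ?_⟩
      rw [hk i, rp_one, ← pairing_R, ← cartanE6]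
    · obtain ⟨u, k, hu⟩ := ih _ (by rw [hn]; exact hi) (sC i c) (by rw [cl3_sC, hc]) rfl
      refine ⟨cs6.simple i * u, k, fun j => ?_⟩
      have h1 := hu j
      have h2 := hu i
      rw [rp_mul, rp_simple]
      have h3 : pairing Ca j (rp u (R k) - pairing Ca i (rp u (R k)) • sr i) =
          pairing Ca j (rp u (R k)) - pairing Ca i (rp u (R k)) * AE6 j i := by
        rw [← frm_sr, ← frm_sr, frm_sub_right, frm_smul_right, frm_sr, frm_sr, frm_sr, sr, pairing_single, mul_one]
        show _ - _ * cartanOf chevE6 6 j i = _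
        rw [cartanE6]
      rw [h3]
      push_cast
      rw [← h1, ← h2]
      have h4 : ∀ i, (AE6 i i : ZMod 3) = 2 := by decide
      unfold sC
      rw [h4]
      have h5 : (3 : ZMod 3) = 0 := by decide
      linear_combination (-(AE6 j i : ZMod 3) * c i * 0) * h5

end Cfsg.Agent.H943.Car.W3
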