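import Cfsg.Agent.H943.Car.W3

/-!
# The Weyl group of type `E₆` on the coroot lattice modulo 3: stabilisers (helper943)
-/

set_option autoImplicit false
set_option linter.unusedSectionVars false

namespace Cfsg.Agent.H943.Car.W3

open CoxeterSystem Subgroup Cfsg Cfsg.Lie Cfsg.Lie.ChevalleyDatum
open Cfsg.Agent.ChevalleyStructure Cfsg.Agent.ChevalleyStructure.Elts Cfsg.Agent.ChevalleyStructure.CoxeterGeom
  Cfsg.Agent.ChevalleyStructure.CoxeterGeomTypes
open Cfsg.Agent.Tits.Roots Cfsg.Agent.Tits.Core Cfsg.Agent.Nodes.RGDChev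
open Cfsg.Agent.H696.GmnNeg Cfsg.Agent.H696.GmnThree Cfsg.Agent.H720.TwFr Cfsg.Agent.H607.Car

/-! ### the roots -/

theorem root_iff (a : Fin 6 → ℤ) : IsRoot cs6 hp6.isCartan a ↔ ∃ s : Fin 72, a = vec chevE6 6 s := by
  rw [isRoot_iff hp6 cs6]
  constructor
  · rintro ⟨s, hs, rfl⟩
    rw [nroots_E6] at hs
    exact ⟨⟨s, hs⟩, rfl⟩
  · rintro ⟨s, rfl⟩
    exact ⟨s, by rw [nroots_E6]; exact s.2, rfl⟩

/-- bounds -/
def bd : Fin 4 → ℤ := ![0, 2, 2, 3]

theorem bd_chk : ∀ (k : Fin 4) (s : Fin 72), (∑ i, vec chevE6 6 s i * Pr k i) ≤ bd k ∧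
    -bd k ≤ (∑ i, vec chevE6 6 s i * Pr k i) := by decide +kernel

theorem frm_R (a : Fin 6 → ℤ) (k : Fin 4) : frm a (R k) = ∑ i, a i * Pr k i := by
  rw [frm_def]
  refine Finset.sum_congr rfl fun i _ => ?_
  rw [← pairing_R, ← cartanE6]

theorem bd_root {a : Fin 6 → ℤ} (ha : IsRoot cs6 hp6.isCartan a) (k : Fin 4) : frm a (R k) ≤ bd k ∧
    -bd k ≤ frm a (R k) := by
  obtain ⟨s, rfl⟩ := (root_iff a).1 ha
  rw [frm_R]
  exact bd_chk k s

/-- three times the inverse of the Cartan matrix -/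
def B3 : Fin 6 → Fin 6 → ℤ :=
  ![![4, 3, 5, 6, 4, 2], ![3, 6, 6, 9, 6, 3], ![5, 6, 10, 12, 8, 4], ![6, 9, 12, 18, 12, 6], ![4, 6, 8, 12, 10, 5],
    ![2, 3, 4, 6, 5, 4]]

theorem B3_mul : ∀ j m, ∑ i, B3 j i * AE6 i m = if j = m then 3 else 0 := by decide +kernel

theorem three_mul (v : Fin 6 → ℤ) (j : Fin 6) : 3 * v j = ∑ i, B3 j i * pairing Ca i v := by
  have h1 : ∀ i, pairing Ca i v = ∑ m, AE6 i m * v m := fun i => by
    show ∑ m, (cartanOf chevE6 6) i m * v m = _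
    rw [cartanE6]
  simp only [h1, Finset.mul_sum]
  rw [Finset.sum_comm]
  have h2 : ∀ m, ∑ i, B3 j i * (AE6 i m * v m) = (if j = m then 3 else 0) * v m := fun m => by
    rw [← B3_mul, Finset.sum_mul]
    exact Finset.sum_congr rfl fun i _ => by ring
  simp only [h2]
  rw [Finset.sum_eq_single j]
  · rw [if_pos rfl]
  · intro b _ hb
    rw [if_neg (Ne.symm hb), zero_mul]
  · intro h; exact absurd (Finset.mem_univ _) h

/-- the statement to be checked -/
def Chk2 (k : Fin 4) (u : Fin 6 → ℤ) : Prop := (∀ j, (3 : ℤ) ∣ ∑ i, B3 j i * u i) →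
  (∀ s : Fin 72, (∑ i, vec chevE6 6 s i * (Pr k i + 3 * u i)) ≤ bd k ∧
    -bd k ≤ (∑ i, vec chevE6 6 s i * (Pr k i + 3 * u i))) →
  (∀ i, u i = 0) ∨ ∃ s : Fin 72, (∀ j, ∑ i, B3 j i * u i = -(3 * vec chevE6 6 s j)) ∧
    ∑ i, vec chevE6 6 s i * Pr k i = 3

instance (k : Fin 4) (u : Fin 6 → ℤ) : Decidable (Chk2 k u) := by unfold Chk2; infer_instance

/-- the values `-1, 0, 1` -/
def tv : Fin 3 → ℤ := ![-1, 0, 1]

theorem chk2 : ∀ (k : Fin 3) (a b c d e f : Fin 3), Chk2 k.succ ![tv a, tv b, tv c, tv d, tv e, tv f] := by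
  decide +kernel

theorem tv_of {x : ℤ} (h1 : -1 ≤ x) (h2 : x ≤ 1) : ∃ a, x = tv a := by
  have h3 : x = -1 ∨ x = 0 ∨ x = 1 := by omega
  rcases h3 with h | h | h
  · exact ⟨0, h⟩
  · exact ⟨1, h⟩
  · exact ⟨2, h⟩

theorem chk2' (k : Fin 4) (hk : k ≠ 0) (u : Fin 6 → ℤ) (hu : ∀ i, -1 ≤ u i ∧ u i ≤ 1) : Chk2 k u := by
  obtain ⟨k, rfl⟩ := Fin.exists_succ_eq.2 hk
  choose x hx using fun i => tv_of (hu i).1 (hu i).2
  have h := chk2 k (x 0) (x 1) (x 2) (x 3) (x 4) (x 5)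
  have e : u = ![tv (x 0), tv (x 1), tv (x 2), tv (x 3), tv (x 4), tv (x 5)] := by
    funext i; fin_cases i <;> exact hx _
  rw [e]
  exact h

/-! ### the reflection subgroups -/

/-- the subgroup generated by the reflections fixing `d` modulo 3 -/
def Rf (d : Fin 6 → ℤ) : Subgroup W6 := Subgroup.closure {s | ∃ (v : W6) (i : Fin 6), s = v * cs6.simple i * v⁻¹ ∧
  (3 : ℤ) ∣ frm (rp v (sr i)) d}

theorem Rf_congr {d d' : Fin 6 → ℤ} (h : ∀ a, (3 : ℤ) ∣ frm a d - frm a d') : Rf d = Rf d' := by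
  unfold Rf
  congr 1
  ext s
  constructor
  · rintro ⟨v, i, h1, h2⟩
    refine ⟨v, i, h1, ?_⟩
    have h3 := h (rp v (sr i))
    have := dvd_sub h2 h3
    rwa [sub_sub_cancel] at this
  · rintro ⟨v, i, h1, h2⟩
    refine ⟨v, i, h1, ?_⟩
    have h3 := h (rp v (sr i))
    have := dvd_add h3 h2
    rwa [sub_add_cancel] at this

theorem Rf_conj {d : Fin 6 → ℤ} (u : W6) {s : W6} (hs : s ∈ Rf d) : u * s * u⁻¹ ∈ Rf (rp u d) := by
  unfold Rf at hs
  induction hs using Subgroup.closure_induction with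
  | mem s hs =>
    obtain ⟨v, i, rfl, h⟩ := hs
    refine Subgroup.subset_closure ⟨u * v, i, by group, ?_⟩
    rw [rp_mul, frm_rp]
    exact h
  | one => rw [mul_one, mul_inv_cancel]; exact one_mem _
  | mul a b _ _ ha hb =>
    have e : u * (a * b) * u⁻¹ = (u * a * u⁻¹) * (u * b * u⁻¹) := by group
    rw [e]
    exact mul_mem ha hb
  | inv a _ ha =>
    have e : u * a⁻¹ * u⁻¹ = (u * a * u⁻¹)⁻¹ := by group
    rw [e]
    exact inv_mem ha

/-- the stabiliser of `d` is generated by reflections -/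
theorem mem_Rf_of_fix (hR : ReflZ) {d : Fin 6 → ℤ} {w : W6} (h : rp w d = d) : w ∈ Rf d := by
  have h1 : ∀ a, val (fun i => pairing Ca i d) a = frm a d := fun a => by
    unfold val frm
    exact Finset.sum_congr rfl fun i _ => by rw [smul_eq_mul]
  have h2 := hR (fun i => pairing Ca i d) w (fun a => by
    rw [h1, h1]
    conv_lhs => rw [← h, frm_rp])
  refine Subgroup.closure_mono ?_ h2
  rintro s ⟨v, i, h3, h4⟩
  refine ⟨v, i, h3, ?_⟩
  rw [h1] at h4
  rw [h4]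
  exact dvd_zero _

/-- the representatives -/
theorem stab_R (hR : ReflZ) (k : Fin 4) {w : W6} (h : C3 (rp w (R k)) (R k)) : w ∈ Rf (R k) := by
  by_cases hk : k = 0
  · subst hk
    refine mem_Rf_of_fix hR ?_
    have h0 : R 0 = 0 := by
      funext i; fin_cases i <;> rfl
    rw [h0]
    exact map_zero _
  obtain ⟨v, hv⟩ := h
  -- the bounds
  have hb : ∀ a, IsRoot cs6 hp6.isCartan a → frm a (R k) + 3 * frm a v ≤ bd k ∧
      -bd k ≤ frm a (R k) + 3 * frm a v := by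
    intro a ha
    have h1 := bd_root (ha.act w⁻¹) k
    have h2 : frm (rep cs6 hp6.isCartan w⁻¹ a) (R k) = frm a (R k) + 3 * frm a v := by
      rw [← frm_smul_right, ← frm_add_right, ← hv]
      have := frm_rp w (rp w⁻¹ a) (R k)
      rw [rp_inv'] at this
      exact this.symm
    rwa [h2] at h1
  have hu : ∀ i, -1 ≤ pairing Ca i v ∧ pairing Ca i v ≤ 1 := by
    intro i
    have h1 := hb (sr i) (isRoot_sr _ _ i)
    rw [frm_sr, frm_sr] at h1
    have h2 : pairing Ca i (R k) = Pr k i := by rw [← pairing_R, ← cartanE6]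
    rw [h2] at h1
    have h3 : ∀ k i, (0 ≤ Pr k i ∧ Pr k i ≤ 1) ∧ bd k ≤ 3 := by decide +kernel
    have h4 := h3 k i
    omega
  have h3 := chk2' k hk _ hu (fun j => ⟨v j, (three_mul v j).symm⟩) (fun s => by
    have h4 := hb _ ((root_iff _).2 ⟨s, rfl⟩)
    have h5 : ∑ i, vec chevE6 6 s i * (Pr k i + 3 * pairing Ca i v) =
        frm (vec chevE6 6 s) (R k) + 3 * frm (vec chevE6 6 s) v := by
      rw [frm_R, frm_def, Finset.mul_sum, ← Finset.sum_add_distrib]
      exact Finset.sum_congr rfl fun i _ => by ring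
    rw [h5]
    exact h4)
  rcases h3 with h3 | ⟨s, h3, h4⟩
  · -- `v = 0`
    have hv0 : v = 0 := by
      funext j
      have h5 := three_mul v j
      simp only [h3, mul_zero, Finset.sum_const_zero] at h5
      show v j = 0
      omega
    rw [hv0, smul_zero, add_zero] at hv
    exact mem_Rf_of_fix hR hv
  · -- `v` is the opposite of a root
    have hv1 : v = -vec chevE6 6 s := by
      funext j
      have h5 := three_mul v j
      rw [h3 j] at h5
      show v j = -vec chevE6 6 s j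
      omega
    have ha : IsRoot cs6 hp6.isCartan (vec chevE6 6 s) := (root_iff _).2 ⟨s, rfl⟩
    rw [← frm_R] at h4
    obtain ⟨y, i, hy⟩ := id ha
    have hy' : vec chevE6 6 s = rp y (sr i) := hy
    -- the norm of the root
    have h6 : frm (vec chevE6 6 s) (vec chevE6 6 s) = 2 := by
      rw [hy', frm_rp, frm_sr, sr, pairing_single, mul_one]
      exact hp6.isCartan.diag i
    have h7 : rp (y * cs6.simple i * y⁻¹) (rp w (R k)) = R k := by
      rw [rp_refl, ← hy', hv, hv1, frm_add_right, frm_smul_right, h4]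
      have h8 : frm (vec chevE6 6 s) (-vec chevE6 6 s) = -2 := by
        rw [← neg_one_smul ℤ (vec chevE6 6 s), frm_smul_right, h6]
        norm_num
      rw [h8, smul_neg]
      module
    rw [← rp_mul] at h7
    have h8 := mem_Rf_of_fix hR h7
    have h9 : y * cs6.simple i * y⁻¹ ∈ Rf (R k) := Subgroup.subset_closure ⟨y, i, rfl, by
      rw [← hy', h4]⟩
    have e : w = (y * cs6.simple i * y⁻¹)⁻¹ * (y * cs6.simple i * y⁻¹ * w) := by group
    rw [e]
    exact mul_mem (inv_mem h9) h8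

/-! ### the orbits on the root lattice -/

/-- every element is conjugate to a representative up to elements with pairings divisible by 3 -/
theorem orb' (d : Fin 6 → ℤ) : ∃ (u : W6) (k : Fin 4), ∀ i, (3 : ℤ) ∣ pairing Ca i (d - rp u (R k)) := by
  obtain ⟨u, k, h⟩ := orb (fun i => ((pairing Ca i d : ℤ) : ZMod 3)) (by
    unfold cl3
    have h1 : ∀ i, pairing Ca i d = ∑ m, AE6 i m * d m := fun i => by
      show ∑ m, (cartanOf chevE6 6) i m * d m = _
      rw [cartanE6]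
    have h2 : ((pairing Ca 0 d : ℤ) : ZMod 3) + 2 * ((pairing Ca 2 d : ℤ) : ZMod 3) + ((pairing Ca 4 d : ℤ) : ZMod 3) +
        2 * ((pairing Ca 5 d : ℤ) : ZMod 3) =
        ((pairing Ca 0 d + 2 * pairing Ca 2 d + pairing Ca 4 d + 2 * pairing Ca 5 d : ℤ) : ZMod 3) := by
      push_cast; ring
    rw [h2, ZMod.intCast_zmod_eq_zero_iff_dvd, h1, h1, h1, h1]
    refine ⟨d 2 - d 3 + d 5, ?_⟩
    simp [Fin.sum_univ_six, AE6]
    ring)
  refine ⟨u, k, fun i => ?_⟩
  have h1 := h i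
  have h2 : pairing Ca i (d - rp u (R k)) = pairing Ca i d - pairing Ca i (rp u (R k)) := by
    rw [← frm_sr, frm_sub_right, frm_sr, frm_sr]
  rw [h2]
  have h3 : (3 : ℤ) = ((3 : ℕ) : ℤ) := rfl
  rw [h3, ← ZMod.intCast_eq_intCast_iff_dvd_sub]
  exact h1.symm

theorem frm_dvd {e : Fin 6 → ℤ} (he : ∀ i, (3 : ℤ) ∣ pairing Ca i e) (a : Fin 6 → ℤ) : (3 : ℤ) ∣ frm a e := by
  rw [frm_def]
  exact Finset.dvd_sum fun i _ => Dvd.dvd.mul_left (he i) _

/-- **The stabilisers modulo 3 are generated by reflections.** -/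
theorem stab3 (hR : ReflZ) {d : Fin 6 → ℤ} {w : W6} (h : C3 (rp w d) d) : w ∈ Rf d := by
  obtain ⟨u, k, he⟩ := orb' d
  obtain ⟨e, hed⟩ : ∃ e, e = d - rp u (R k) := ⟨_, rfl⟩
  rw [← hed] at he
  have hd : d = rp u (R k) + e := by rw [hed, add_sub_cancel]
  have h1 : C3 (rp w (rp u (R k))) (rp u (R k)) := by
    obtain ⟨v, hv⟩ := h
    obtain ⟨v', hv'⟩ := c3_ker he w
    refine ⟨v - v', ?_⟩
    rw [hd, rp_add, hv'] at hv
    rw [smul_sub]
    have : rp w (rp u (R k)) = rp u (R k) + e + (3 : ℤ) • v - (e + (3 : ℤ) • v') := by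
      rw [← hv, add_sub_cancel_right]
    rw [this]
    abel
  have h2 : C3 (rp (u⁻¹ * w * u) (R k)) (R k) := by
    have := h1.rp u⁻¹
    rwa [rp_inv, ← rp_mul, ← rp_mul] at this
  have h3 := Rf_conj u (stab_R hR k h2)
  have e1 : u * (u⁻¹ * w * u) * u⁻¹ = w := by group
  rw [e1] at h3
  rwa [Rf_congr (d' := rp u (R k)) fun a => by rw [hd, frm_add_right, add_sub_cancel_left]; exact frm_dvd he a]

/-- **`-1` on the image.** -/
theorem neg3 (d : Fin 6 → ℤ) : ∃ w : W6, ∀ a, (3 : ℤ) ∣ frm a (rp w d) + frm a d := by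
  obtain ⟨u, k, he⟩ := orb' d
  obtain ⟨e, hed⟩ : ∃ e, e = d - rp u (R k) := ⟨_, rfl⟩
  rw [← hed] at he
  have hd : d = rp u (R k) + e := by rw [hed, add_sub_cancel]
  obtain ⟨w₀, hw₀⟩ := Cfsg.Agent.H696.GmnTwE6.neg_graph hp6 cs6
  have h1 : rp w₀ (R k) = -R k := by
    have h2 := hw₀ (R k)
    have h3 : permE rho6 (R k) = R k := by
      funext i
      show R k (rho6.symm i) = R k i
      have h4 : ∀ k i, R k (rho6.symm i) = R k i := by decide +kernel
      exact h4 k i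
    rw [h3] at h2
    exact (neg_eq_iff_eq_neg.2 h2).symm
  refine ⟨u * w₀ * u⁻¹, fun a => ?_⟩
  have h2 : rp (u * w₀ * u⁻¹) (rp u (R k)) = -rp u (R k) := by
    rw [← rp_mul, inv_mul_cancel_right, rp_mul, h1, rp_neg]
  have h3 := (c3_ker he (u * w₀ * u⁻¹)).frm a
  have h4 := frm_dvd he a
  have h5 : frm a (rp (u * w₀ * u⁻¹) d) + frm a d = frm a (rp (u * w₀ * u⁻¹) e) - frm a e + 2 * frm a e := by
    rw [hd, rp_add, h2, frm_add_right, frm_add_right]
    have h6 : frm a (-rp u (R k)) = -frm a (rp u (R k)) := by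
      rw [← neg_one_smul ℤ, frm_smul_right, neg_one_mul]
    rw [h6]
    ring
  rw [h5]
  exact dvd_add h3 (Dvd.dvd.mul_left h4 _)

end Cfsg.Agent.H943.Car.W3
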